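import Cfsg.Agent.Lib.Linear.ParabolicBlocks
import Mathlib

/-!
# Bruhat decomposition of `GL n` and double cosets of standard parabolics

Every invertible matrix is a product `u * w * v` with `u`, `v` upper triangular and `w` a permutation
matrix; two permutation matrices lie in the same double coset of two standard parabolics exactly when
they have the same table of block incidences.
-/

set_option autoImplicit false

namespace Cfsg.Lib.Linear.Bruhat

open Matrix Cfsg.Lib.Linear.ParBlocks
open scoped MatrixGroups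

variable {n : ℕ} {F : Type*} [Field F]

section PermMatrix

/-- The permutation matrix with a `1` at `(σ j, j)`. -/
def permHom (n : ℕ) (F : Type*) [Field F] : Equiv.Perm (Fin n) →* Matrix (Fin n) (Fin n) F where
  toFun σ := Matrix.of fun i j => if i = σ j then 1 else 0
  map_one' := by ext i j; simp [Matrix.one_apply]; congr
  map_mul' σ τ := by
    ext i j
    simp [Matrix.mul_apply]; congr

/-- Permutation matrices in the general linear group. -/
noncomputable def permGL (n : ℕ) (F : Type*) [Field F] : Equiv.Perm (Fin n) →* GL (Fin n) F :=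
  (permHom n F).toHomUnits

theorem permGL_apply (σ : Equiv.Perm (Fin n)) (i j : Fin n) :
    ((permGL n F σ : GL (Fin n) F) : Matrix (Fin n) (Fin n) F) i j = if i = σ j then 1 else 0 := rfl

theorem mul_permGL_apply (q : GL (Fin n) F) (σ : Equiv.Perm (Fin n)) (i j : Fin n) :
    ((q * permGL n F σ : GL (Fin n) F) : Matrix (Fin n) (Fin n) F) i j =
      (q : Matrix (Fin n) (Fin n) F) i (σ j) := by
  simp [Matrix.mul_apply, permGL_apply]

theorem permGL_mul_apply (q : GL (Fin n) F) (σ : Equiv.Perm (Fin n)) (i j : Fin n) :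
    ((permGL n F σ * q : GL (Fin n) F) : Matrix (Fin n) (Fin n) F) (σ i) j =
      (q : Matrix (Fin n) (Fin n) F) i j := by
  simp [Matrix.mul_apply, permGL_apply, σ.injective.eq_iff]

theorem compLabel_mono (a : Fin n → ℕ) : Monotone (compLabel a) := fun i j hij =>
  Finset.card_le_card fun k hk => by
    rw [Finset.mem_filter] at hk ⊢
    exact ⟨hk.1, hk.2.trans (Fin.le_def.1 hij)⟩

theorem upperTriangular_le_parabolic (a : Fin n → ℕ) :
    upperTriangularGL n F ≤ parabolicGL n F a := fun _ hg _ _ h =>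
  hg (lt_of_not_ge fun h' => absurd (compLabel_mono a h') (not_le.2 h))

theorem permGL_mem_parabolic (a : Fin n → ℕ) {σ : Equiv.Perm (Fin n)} (h : σ ∈ youngSubgroup a) :
    permGL n F σ ∈ parabolicGL n F a := by
  intro i j hij
  rw [permGL_apply, if_neg]
  rintro rfl
  rw [h j] at hij
  exact lt_irrefl _ hij

end PermMatrix

section Decomposition

/-- The lowest nonzero row of a column. -/
noncomputable def piv (h : GL (Fin n) F) (j : Fin n) : Fin n := by
  classical
  exact (Finset.univ.filter fun i => (h : Matrix (Fin n) (Fin n) F) i j ≠ 0).max' (by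
    by_contra hne
    rw [Finset.not_nonempty_iff_eq_empty, Finset.filter_eq_empty_iff] at hne
    exact (Matrix.GeneralLinearGroup.det_ne_zero h)
      (Matrix.det_eq_zero_of_column_eq_zero j fun i => not_not.1 (hne (Finset.mem_univ i))))

theorem piv_ne_zero (h : GL (Fin n) F) (j : Fin n) : (h : Matrix (Fin n) (Fin n) F) (piv h j) j ≠ 0 := by
  classical
  unfold piv
  exact (Finset.mem_filter.1 (Finset.max'_mem
    (Finset.univ.filter fun i => (h : Matrix (Fin n) (Fin n) F) i j ≠ 0) _)).2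

theorem eq_zero_of_piv_lt (h : GL (Fin n) F) {i j : Fin n} (hij : piv h j < i) :
    (h : Matrix (Fin n) (Fin n) F) i j = 0 := by
  classical
  by_contra hne
  exact not_le.2 hij (Finset.le_max' _ i (Finset.mem_filter.2 ⟨Finset.mem_univ _, hne⟩))

theorem exists_piv_injective (g : GL (Fin n) F) :
    ∃ v ∈ upperTriangularGL n F, Function.Injective (piv (g * v)) := by
  classical
  have hne : ∃ s, ∃ v ∈ upperTriangularGL n F, ∑ j, (piv (g * v) j).val = s :=
    ⟨_, 1, one_mem _, rfl⟩
  obtain ⟨v, hv, hs⟩ := Nat.find_spec hne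
  refine ⟨v, hv, fun j k hjk => ?_⟩
  by_contra hne'
  wlog hlt : j < k generalizing j k
  · exact this k j hjk.symm (Ne.symm hne') (lt_of_le_of_ne (not_lt.1 hlt) (Ne.symm hne'))
  set h := g * v
  set c : F := -((h : Matrix (Fin n) (Fin n) F) (piv h k) k / (h : Matrix (Fin n) (Fin n) F) (piv h j) j) with hc
  let t : GL (Fin n) F := GeneralLinearGroup.mk'' (Matrix.transvection j k c)
    (by rw [Matrix.det_transvection_of_ne _ _ hne']; exact isUnit_one)
  have ht : t ∈ upperTriangularGL n F := by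
    intro a b hab
    simp only [id] at hab
    change Matrix.transvection j k c a b = 0
    rw [Matrix.transvection, Matrix.add_apply, Matrix.one_apply_ne (ne_of_gt hab), zero_add,
      Matrix.single_apply, if_neg]
    rintro ⟨rfl, rfl⟩
    exact lt_asymm hlt hab
  have hcol : ∀ i, ((h * t : GL (Fin n) F) : Matrix (Fin n) (Fin n) F) i k =
      (h : Matrix (Fin n) (Fin n) F) i k + c * (h : Matrix (Fin n) (Fin n) F) i j := fun i => by
    rw [Units.val_mul]
    exact Matrix.mul_transvection_apply_same _ _ _ _ _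
  have hoth : ∀ l, l ≠ k → piv (h * t) l = piv h l := fun l hl => by
    have e : ∀ i, ((h * t : GL (Fin n) F) : Matrix (Fin n) (Fin n) F) i l =
        (h : Matrix (Fin n) (Fin n) F) i l := fun i => by
      rw [Units.val_mul]
      exact Matrix.mul_transvection_apply_of_ne _ _ _ _ hl _ _
    refine le_antisymm (le_of_not_gt fun hh => ?_) (le_of_not_gt fun hh => ?_)
    · exact piv_ne_zero (h * t) l (by rw [e]; exact eq_zero_of_piv_lt h hh)
    · exact piv_ne_zero h l (by rw [← e]; exact eq_zero_of_piv_lt (h * t) hh)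
  have hk : piv (h * t) k < piv h k := by
    refine lt_of_not_ge fun hh => piv_ne_zero (h * t) k ?_
    rw [hcol]
    rcases eq_or_lt_of_le hh with hh | hh
    · rw [← hh]
      have := piv_ne_zero h j
      rw [hjk] at this
      rw [hc, hjk]
      field_simp
      ring
    · rw [eq_zero_of_piv_lt h hh, eq_zero_of_piv_lt h (hjk ▸ hh), mul_zero, add_zero]
  refine Nat.find_min hne (m := ∑ l, (piv (g * (v * t)) l).val) ?_ ⟨_, mul_mem hv ht, rfl⟩
  rw [← hs, ← mul_assoc]
  exact Finset.sum_lt_sum (fun l _ => by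
    rcases eq_or_ne l k with rfl | hl
    · exact (Fin.lt_def.1 hk).le
    · rw [hoth l hl]) ⟨k, Finset.mem_univ _, Fin.lt_def.1 hk⟩

/-- The Bruhat decomposition. -/
theorem exists_bruhat (g : GL (Fin n) F) :
    ∃ σ : Equiv.Perm (Fin n), ∃ u ∈ upperTriangularGL n F, ∃ v ∈ upperTriangularGL n F,
      g = u * permGL n F σ * v := by
  obtain ⟨v, hv, hinj⟩ := exists_piv_injective g
  let σ := Equiv.ofBijective _ hinj.bijective_of_finite
  refine ⟨σ, g * v * permGL n F σ⁻¹, ?_, v⁻¹, inv_mem hv, ?_⟩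
  · intro i j hij
    simp only [id] at hij
    rw [mul_permGL_apply]
    refine eq_zero_of_piv_lt (g * v) (lt_of_eq_of_lt ?_ hij)
    exact σ.apply_symm_apply j
  · rw [mul_assoc (g * v), ← map_mul, inv_mul_cancel, map_one, mul_one, mul_inv_cancel_right]

end Decomposition

section DoubleCosets

variable (a b : Fin n → ℕ) (ha : ∑ i, a i = n) (hb : ∑ i, b i = n)

/-- Block incidences of a permutation. -/
def tab (σ : Equiv.Perm (Fin n)) (k l : Fin n) : ℕ :=
  (Finset.univ.filter fun j => blk a ha (σ j) = k ∧ blk b hb j = l).card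

/-- The matrices with prescribed row and column sums. -/
def Tables : Type := {T : Fin n → Fin n → ℕ // (∀ k, ∑ l, T k l = a k) ∧ (∀ l, ∑ k, T k l = b l)}

theorem card_blk (k : Fin n) : (Finset.univ.filter fun i => blk a ha i = k).card = a k := by
  rw [← Fintype.card_subtype, ← Fintype.card_congr (blockEquiv a ha k), Fintype.card_fin]

theorem tab_mem (σ : Equiv.Perm (Fin n)) :
    (∀ k, ∑ l, tab a b ha hb σ k l = a k) ∧ (∀ l, ∑ k, tab a b ha hb σ k l = b l) := by
  constructor
  · intro k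
    rw [← card_blk a ha k,
      ← Finset.card_map (s := Finset.univ.filter fun i => blk a ha i = k) σ.symm.toEmbedding,
      Finset.card_eq_sum_card_fiberwise (f := blk b hb) (t := Finset.univ) (fun _ _ => Finset.mem_univ _)]
    refine Finset.sum_congr rfl fun l _ => congrArg Finset.card ?_
    ext j
    simp
  · intro l
    rw [← card_blk b hb l, Finset.card_eq_sum_card_fiberwise (f := fun j => blk a ha (σ j)) (t := Finset.univ)
      (fun _ _ => Finset.mem_univ _)]
    refine Finset.sum_congr rfl fun k _ => congrArg Finset.card ?_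
    ext j
    simp [and_comm]

theorem exists_labelling (T : Fin n → Fin n → ℕ) (hT : ∀ k, ∑ l, T k l = a k) :
    ∃ u : Fin n → Fin n × Fin n, (∀ i, (u i).1 = blk a ha i) ∧
      ∀ p, Nat.card {i // u i = p} = T p.1 p.2 := by
  classical
  let e : (Σ p : Fin n × Fin n, Fin (T p.1 p.2)) ≃ Fin n :=
    (((Equiv.sigmaCongrLeft' (Equiv.sigmaEquivProd (Fin n) (Fin n)).symm).trans
      (Equiv.sigmaAssoc fun k l => Fin (T k l))).trans
      (Equiv.sigmaCongrRight fun k => (finSigmaFinEquiv.trans (finCongr (hT k))).trans (blockEquiv a ha k))).trans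
      (Equiv.sigmaFiberEquiv (blk a ha))
  refine ⟨fun i => (e.symm i).1, fun i => ?_, fun p => ?_⟩
  · obtain ⟨⟨⟨k, l⟩, r⟩, rfl⟩ := e.surjective i
    simp only [Equiv.symm_apply_apply]
    exact (blockEquiv a ha k _).2.symm
  · rw [← Nat.card_fin (T p.1 p.2)]
    exact Nat.card_congr ((e.symm.subtypeEquiv fun i => Iff.rfl).trans (Equiv.sigmaSubtype p))

theorem tab_surjective (T : Tables a b) : ∃ σ, tab a b ha hb σ = T.1 := by
  classical
  obtain ⟨u, hu, hu'⟩ := exists_labelling a ha T.1 T.2.1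
  obtain ⟨w, hw, hw'⟩ := exists_labelling b hb (fun l k => T.1 k l) T.2.2
  let e : ∀ p : Fin n × Fin n, {j // (fun j => ((w j).2, (w j).1)) j = p} ≃ {i // u i = p} := fun p =>
    (Equiv.subtypeEquivRight fun j => by simp [Prod.ext_iff, and_comm]).trans
      (Finite.card_eq.1 ((hw' (p.2, p.1)).trans (hu' p).symm)).some
  refine ⟨Equiv.ofFiberEquiv e, funext fun k => funext fun l => ?_⟩
  have key : ∀ j, u (Equiv.ofFiberEquiv e j) = ((w j).2, (w j).1) := Equiv.ofFiberEquiv_map e
  rw [tab, ← hw' (l, k), Nat.card_eq_fintype_card, Fintype.card_subtype]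
  refine congrArg Finset.card (Finset.filter_congr fun j _ => ?_)
  rw [← hu, ← hw, key, Prod.ext_iff, and_comm]

theorem tab_mul {y π : Equiv.Perm (Fin n)} (hy : y ∈ youngSubgroup a) (hπ : π ∈ youngSubgroup b)
    (σ : Equiv.Perm (Fin n)) : tab a b ha hb (y * σ * π) = tab a b ha hb σ := by
  funext k l
  unfold tab
  refine Finset.card_equiv π fun j => ?_
  have e1 : blk a ha (y (σ (π j))) = blk a ha (σ (π j)) := Fin.ext (hy _)
  have e2 : blk b hb (π j) = blk b hb j := Fin.ext (hπ _)
  rw [Finset.mem_filter, Finset.mem_filter]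
  simp only [Finset.mem_univ, true_and, Equiv.Perm.mul_apply, e1, e2]

theorem exists_young_of_tab_eq {σ τ : Equiv.Perm (Fin n)} (h : tab a b ha hb σ = tab a b ha hb τ) :
    ∃ y ∈ youngSubgroup a, ∃ π ∈ youngSubgroup b, τ = y * σ * π := by
  classical
  let f : Equiv.Perm (Fin n) → Fin n → Fin n × Fin n := fun ρ j => (blk a ha (ρ j), blk b hb j)
  have hf : ∀ ρ p, Fintype.card {j // f ρ j = p} = tab a b ha hb ρ p.1 p.2 := fun ρ p => by
    rw [Fintype.card_subtype, tab]
    exact congrArg Finset.card (Finset.filter_congr fun j _ => by simp [f, Prod.ext_iff])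
  let e : ∀ p, {j // f τ j = p} ≃ {j // f σ j = p} := fun p =>
    Fintype.equivOfCardEq (by rw [hf, hf, h])
  let π : Equiv.Perm (Fin n) := Equiv.ofFiberEquiv e
  have key : ∀ j, f σ (π j) = f τ j := Equiv.ofFiberEquiv_map e
  refine ⟨τ * π⁻¹ * σ⁻¹, fun i => ?_, π, fun j => congrArg Fin.val (congrArg Prod.snd (key j)), ?_⟩
  · have := congrArg Fin.val (congrArg Prod.fst (key (π⁻¹ (σ⁻¹ i))))
    simp only [f, Equiv.Perm.coe_inv, Equiv.apply_symm_apply] at this
    exact this.symm
  · group

theorem tab_eq_iff {σ τ : Equiv.Perm (Fin n)} :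
    (∃ y ∈ youngSubgroup a, ∃ π ∈ youngSubgroup b, τ = y * σ * π) ↔ tab a b ha hb σ = tab a b ha hb τ :=
  ⟨fun ⟨_, hy, _, hπ, e⟩ => e ▸ (tab_mul a b ha hb hy hπ σ).symm, exists_young_of_tab_eq a b ha hb⟩

theorem tab_eq_iff_gl {σ τ : Equiv.Perm (Fin n)} :
    (∃ p ∈ parabolicGL n F a, ∃ q ∈ parabolicGL n F b, permGL n F τ = p * permGL n F σ * q) ↔
      tab a b ha hb σ = tab a b ha hb τ := by
  refine ⟨fun ⟨p, hp, q, hq, e⟩ => (tab_eq_iff a b ha hb).1 ?_, fun h => ?_⟩
  · have e' : p⁻¹ * permGL n F τ = permGL n F σ * q := by rw [e]; group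
    obtain ⟨π, hπ⟩ : ∃ π : Equiv.Perm (Fin n), ∀ j, (q : Matrix (Fin n) (Fin n) F) (π j) j ≠ 0 := by
      by_contra hne
      push Not at hne
      refine Matrix.GeneralLinearGroup.det_ne_zero q ?_
      rw [Matrix.det_apply']
      refine Finset.sum_eq_zero fun π _ => ?_
      obtain ⟨j, hj⟩ := hne π
      rw [Finset.prod_eq_zero (f := fun i => (q : Matrix (Fin n) (Fin n) F) (π i) i) (Finset.mem_univ j) hj, mul_zero]
    have hb' : ∀ j, compLabel b (π j) ≤ compLabel b j := fun j => not_lt.1 fun h => hπ j (hq h)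
    have hπY : π ∈ youngSubgroup b := fun j =>
      (Finset.sum_eq_sum_iff_of_le fun j _ => hb' j).1 (Equiv.sum_comp π _) j (Finset.mem_univ j)
    have ha' : ∀ j, compLabel a (σ (π j)) ≤ compLabel a (τ j) := fun j => not_lt.1 fun h => hπ j (by
      rw [← permGL_mul_apply q σ, ← e', mul_permGL_apply]
      exact inv_mem hp h)
    have haY : τ * π⁻¹ * σ⁻¹ ∈ youngSubgroup a := fun i => by
      have := (Finset.sum_eq_sum_iff_of_le fun j _ => ha' j).1
        ((Equiv.sum_comp (σ * π) (compLabel a)).trans (Equiv.sum_comp τ (compLabel a)).symm)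
        (π⁻¹ (σ⁻¹ i)) (Finset.mem_univ _)
      simp only [Equiv.Perm.coe_inv, Equiv.apply_symm_apply] at this
      exact this.symm
    exact ⟨_, haY, π, hπY, by group⟩
  · obtain ⟨y, hy, π, hπ, rfl⟩ := (tab_eq_iff a b ha hb).2 h
    exact ⟨_, permGL_mem_parabolic a hy, _, permGL_mem_parabolic b hπ, by rw [map_mul, map_mul]⟩

theorem exists_double_coset (g : GL (Fin n) F) :
    ∃ σ, ∃ p ∈ parabolicGL n F a, ∃ q ∈ parabolicGL n F b, g = p * permGL n F σ * q := by
  obtain ⟨σ, u, hu, v, hv, e⟩ := exists_bruhat g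
  exact ⟨σ, u, upperTriangular_le_parabolic a hu, v, upperTriangular_le_parabolic b hv, e⟩

end DoubleCosets

section Counting

open MulAction

theorem sum_fixedPointCharacter_mul {G : Type*} [Group G] [Fintype G] (H K : Subgroup G) {β α : Type*}
    (e : β → G) (Φ : β → α) (hsurj : ∀ g, ∃ x, ∃ h ∈ H, ∃ k ∈ K, g = h * e x * k)
    (heq : ∀ x y, (∃ h ∈ H, ∃ k ∈ K, e y = h * e x * k) ↔ Φ x = Φ y) :
    (Nat.card G : ℂ)⁻¹ * ∑ g : G, fixedPointCharacter H g * fixedPointCharacter K g =
      (Nat.card (Set.range Φ) : ℂ) := by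
  classical
  let := Fintype.ofFinite ((G ⧸ H) × (G ⧸ K))
  let := Fintype.ofFinite (orbitRel.Quotient G ((G ⧸ H) × (G ⧸ K)))
  have hfix : ∀ g : G, fixedPointCharacter H g * fixedPointCharacter K g =
      ((Fintype.card (fixedBy ((G ⧸ H) × (G ⧸ K)) g) : ℕ) : ℂ) := fun g => by
    rw [fixedPointCharacter, fixedPointCharacter, ← Nat.cast_mul, ← Nat.card_prod, ← Nat.card_eq_fintype_card,
      Nat.card_congr ((Equiv.Set.prod _ _).symm.trans (Equiv.setCongr (s := fixedBy (G ⧸ H) g ×ˢ fixedBy (G ⧸ K) g)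
        (t := fixedBy ((G ⧸ H) × (G ⧸ K)) g) (Set.ext fun x => by simp [Prod.ext_iff])))]
  simp only [hfix]
  rw [← Nat.cast_sum, sum_card_fixedBy_eq_card_orbits_mul_card_group, ← Nat.card_eq_fintype_card (α := G),
    ← Nat.card_eq_fintype_card, Nat.cast_mul,
    mul_comm ((Nat.card (orbitRel.Quotient G ((G ⧸ H) × (G ⧸ K))) : ℕ) : ℂ),
    inv_mul_cancel_left₀ (Nat.cast_ne_zero.2 Nat.card_pos.ne')]
  congr 1
  let q : G → orbitRel.Quotient G ((G ⧸ H) × (G ⧸ K)) := fun g =>
    Quotient.mk'' ((((1 : G) : G ⧸ H)), ((g : G ⧸ K)))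
  have hq : ∀ g g', q g = q g' ↔ ∃ h ∈ H, ∃ k ∈ K, g' = h * g * k := fun g g' => by
    rw [eq_comm, Quotient.eq'', orbitRel_apply, mem_orbit_iff]
    constructor
    · rintro ⟨h, hh⟩
      rw [Prod.smul_mk, Prod.mk.injEq, Quotient.smul_coe, Quotient.smul_coe, QuotientGroup.eq,
        QuotientGroup.eq, smul_eq_mul, smul_eq_mul, mul_one, mul_one, inv_mem_iff] at hh
      exact ⟨h, hh.1, (h * g)⁻¹ * g', hh.2, by group⟩
    · rintro ⟨h, hh, k, hk, rfl⟩
      refine ⟨h, ?_⟩
      rw [Prod.smul_mk, Prod.mk.injEq, Quotient.smul_coe, Quotient.smul_coe, QuotientGroup.eq,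
        QuotientGroup.eq, smul_eq_mul, smul_eq_mul, mul_one, mul_one, inv_mem_iff]
      exact ⟨hh, by rwa [inv_mul_cancel_left]⟩
  refine (Nat.card_eq_of_bijective (fun t : Set.range Φ => q (e t.2.choose)) ⟨fun s t hst => ?_, fun o => ?_⟩).symm
  · exact Subtype.ext (by rw [← s.2.choose_spec, ← t.2.choose_spec]; exact (heq _ _).1 ((hq _ _).1 hst))
  · induction o using Quotient.inductionOn' with
    | h z =>
      obtain ⟨x, y⟩ := z
      induction x using QuotientGroup.induction_on with
      | H x =>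
        induction y using QuotientGroup.induction_on with
        | H y =>
          obtain ⟨r, h, hh, k, hk, er⟩ := hsurj (x⁻¹ * y)
          refine ⟨⟨Φ r, r, rfl⟩, ?_⟩
          have h1 : q (e r) = q (x⁻¹ * y) := (hq _ _).2 ⟨h, hh, k, hk, er⟩
          have h2 : q (e (⟨Φ r, r, rfl⟩ : Set.range Φ).2.choose) = q (e r) :=
            (hq _ _).2 ((heq _ _).2 (⟨Φ r, r, rfl⟩ : Set.range Φ).2.choose_spec)
          refine h2.trans (h1.trans ?_)
          rw [Quotient.eq'', orbitRel_apply, mem_orbit_iff]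
          exact ⟨x⁻¹, by simp⟩

variable (a b : Fin n → ℕ) (ha : ∑ i, a i = n) (hb : ∑ i, b i = n)
include ha hb

theorem card_range_tab : Nat.card (Set.range (tab a b ha hb)) = Nat.card (Tables a b) :=
  Nat.card_congr
    { toFun := fun t => ⟨t.1, by obtain ⟨σ, hσ⟩ := t.2; rw [← hσ]; exact tab_mem a b ha hb σ⟩
      invFun := fun T => ⟨T.1, tab_surjective a b ha hb T⟩
      left_inv := fun _ => rfl
      right_inv := fun _ => rfl }

theorem sum_parabolic_eq [Fintype F] [Fintype (GL (Fin n) F)] :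
    (Nat.card (GL (Fin n) F) : ℂ)⁻¹ * ∑ g : GL (Fin n) F,
        fixedPointCharacter (parabolicGL n F a) g * fixedPointCharacter (parabolicGL n F b) g =
      (Nat.card (Tables a b) : ℂ) := by
  rw [sum_fixedPointCharacter_mul _ _ (permGL n F) (tab a b ha hb) (exists_double_coset a b)
    fun _ _ => tab_eq_iff_gl a b ha hb, card_range_tab a b ha hb]

theorem sum_young_eq :
    (Nat.card (Equiv.Perm (Fin n)) : ℂ)⁻¹ * ∑ σ : Equiv.Perm (Fin n),
        fixedPointCharacter (youngSubgroup a) σ * fixedPointCharacter (youngSubgroup b) σ =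
      (Nat.card (Tables a b) : ℂ) := by
  rw [sum_fixedPointCharacter_mul _ _ id (tab a b ha hb)
    (fun g => ⟨g, 1, one_mem _, 1, one_mem _, by simp⟩) fun _ _ => tab_eq_iff a b ha hb, card_range_tab a b ha hb]

end Counting

end Cfsg.Lib.Linear.Bruhat
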