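import Cfsg.Agent.Lib.Linear.Unipotent.Irreducible
import Cfsg.Agent.Lib.Char.Ramification
import Cfsg.Agent.Lib.Char.Constituents
import Cfsg.Agent.Lib.Char.Quotient
import Cfsg.Agent.Lib.Block.RegInt
import Cfsg.Agent.Lib.Block.SecondMain
import Cfsg.Agent.Lib.Block.DefectApps
import Cfsg.Agent.Lib.Linear.SLBasic

/-!
The Steinberg character of `GL n`, its restriction to `SL n` and the quotient `PSL n`; characters of full `p`-degree.
-/

set_option autoImplicit false

namespace Cfsg.Lib.Linear.Unipotent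

open Cfsg Cfsg.Lib.Char Cfsg.Lib.Block
open scoped MatrixGroups

/-- A character whose degree carries the whole `p`-part of the order vanishes at `p`-singular elements. -/
theorem vanish_of_full_degree {G : Type*} [Group G] [Finite G] (p : ℕ) [Fact p.Prime] {χ : G → ℂ}
    (hχ : IsIrrCharacter G χ) (hdeg : χ 1 = ((p ^ (Nat.card G).factorization p : ℕ) : ℂ)) {g : G}
    (hg : p ∣ orderOf g) : χ g = 0 := by
  classical
  haveI := Fintype.ofFinite G
  obtain ⟨M, hM⟩ := exists_isPModular (Fact.out : p.Prime)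
  let χ' : IrrCharacter G := ⟨χ, hχ⟩
  have hcd : (charDegree (χ' : G → ℂ)).factorization p = (Nat.card G).factorization p := by
    rw [charDegree_eq_of_apply_one hdeg, (Fact.out : p.Prime).factorization_pow, Finsupp.single_eq_same]
  have hdef : blockDefect p (blockOf M (χ' : G → ℂ)) = 0 :=
    (blockDefect_eq_zero_iff hM (isPBlock_blockOf χ')).2 ⟨χ', blockOf_eq_singleton_of_full hM χ' hcd.ge, hcd⟩
  refine char_eq_zero_of_pPt_notMem hM χ' fun E hE hmem => ?_
  have hcard := card_defectGroup hM (isPBlock_blockOf χ') hE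
  rw [hdef, pow_zero] at hcard
  rw [Subgroup.eq_bot_of_card_eq E hcard, Subgroup.mem_bot] at hmem
  exact (pPt_eq_one_iff g).1 hmem hg

variable {F : Type*} [Field F] [Fintype F] {n : ℕ}

theorem sum_sum_Ioi (n : ℕ) :
    ∑ i : Fin n, ∑ _j ∈ Finset.Ioi i, (i.val + 1) = n * (n - 1) * (n - 2) / 6 + n * (n - 1) / 2 := by
  induction n with
  | zero => rfl
  | succ n ih =>
    rw [Fin.sum_univ_castSucc]
    simp only [Fin.val_castSucc, Finset.sum_const, Fin.card_Ioi, smul_eq_mul, Fin.val_last]
    have h1 : ∀ i : Fin n, (n + 1 - 1 - i.val) * (i.val + 1) = (n - 1 - i.val) * (i.val + 1) + (i.val + 1) := fun i => by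
      have := i.isLt
      rw [show n + 1 - 1 - i.val = (n - 1 - i.val) + 1 by omega, add_mul, one_mul]
    simp only [Finset.sum_const, Fin.card_Ioi, smul_eq_mul] at ih
    rw [Finset.sum_congr rfl fun i _ => h1 i, Finset.sum_add_distrib, ih, Finset.sum_add_distrib,
      Fin.sum_univ_eq_sum_range (fun i => i), Finset.sum_range_id]
    simp only [Finset.sum_const, Finset.card_univ, Fintype.card_fin, smul_eq_mul, mul_one]
    rcases n with _ | _ | n
    · rfl
    · rfl
    simp only [add_tsub_cancel_right, Nat.add_sub_cancel, Nat.sub_self, zero_mul, add_zero, show n + 1 + 1 + 1 - 2 = n + 1 by omega]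
    obtain ⟨a, ha⟩ : 6 ∣ (n + 1 + 1) * (n + 1) * n := by
      have := Nat.factorial_dvd_descFactorial (n + 2) 3
      simpa [Nat.descFactorial, Nat.factorial, mul_comm, mul_assoc, mul_left_comm] using this
    obtain ⟨b, hb⟩ : 2 ∣ (n + 1 + 1) * (n + 1) := by
      have := Nat.factorial_dvd_descFactorial (n + 2) 2
      simpa [Nat.descFactorial, Nat.factorial, mul_comm] using this
    rw [show n + 1 + 1 - 2 = n by omega, ha, hb,
      show (n + 1 + 1 + 1) * (n + 1 + 1) * (n + 1) = 6 * (a + b) + 0 by nlinarith,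
      show (n + 1 + 1 + 1) * (n + 1 + 1) = 2 * (b + (n + 1 + 1)) by nlinarith]
    omega

theorem steinberg_degree : unipotentCharacterGL n F (fun _ => 1) 1 = (Fintype.card F : ℂ) ^ (n * (n - 1) / 2) := by
  set q := Fintype.card F
  have h := character_one (F := F) (fun _ : Fin n => 1) (by simp)
  have hsub : ∀ i : Fin n, ∀ j ∈ Finset.Ioi i, qint q (1 + j.val) - qint q (1 + i.val) =
      (q : ℂ) ^ (i.val + 1) * qint q (j.val - i.val) := fun i j hj => by
    have hij : i.val < j.val := Fin.lt_def.1 (Finset.mem_Ioi.1 hj)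
    rw [← qint_sub q (show 1 + i.val ≤ 1 + j.val by omega), add_comm 1 i.val, show 1 + j.val - (i.val + 1) = j.val - i.val by omega]
  have hprod : ∀ m, ∏ i : Fin m, ∏ j ∈ Finset.Ioi i, qint q (j.val - i.val) = ∏ i : Fin m, qfc q i.val := by
    intro m
    rw [Finset.prod_comm' (t' := Finset.univ) (s' := fun j : Fin m => Finset.Iio j) (by simp)]
    refine Finset.prod_congr rfl fun j _ => ?_
    rw [qfc]
    refine Finset.prod_bij (fun i _ => j.val - i.val - 1) (fun i hi => ?_) (fun a ha b hb e => ?_) (fun k hk => ?_)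
      (fun i hi => ?_)
    · have := Fin.lt_def.1 (Finset.mem_Iio.1 hi)
      simp; omega
    · have := Fin.lt_def.1 (Finset.mem_Iio.1 ha)
      have := Fin.lt_def.1 (Finset.mem_Iio.1 hb)
      exact Fin.ext (by omega)
    · rw [Finset.mem_range] at hk
      exact ⟨⟨j.val - k - 1, by omega⟩, Finset.mem_Iio.2 (Fin.lt_def.2 (by simp; omega)), by simp; omega⟩
    · have := Fin.lt_def.1 (Finset.mem_Iio.1 hi)
      rw [show j.val - i.val = j.val - i.val - 1 + 1 by omega]
      rfl
  rw [Finset.prod_congr rfl fun i _ => Finset.prod_congr rfl (hsub i)] at h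
  simp only [Finset.prod_mul_distrib] at h
  rw [hprod] at h
  simp only [Finset.prod_pow_eq_pow_sum] at h
  rw [sum_sum_Ioi, pow_add] at h
  have hshift : ∏ i : Fin n, qfc q (1 + i.val) = qfc q n * ∏ i : Fin n, qfc q i.val := by
    rw [Fin.prod_univ_eq_prod_range (fun i => qfc q (1 + i)), Fin.prod_univ_eq_prod_range (fun i => qfc q i),
      mul_comm (qfc q n), ← Finset.prod_range_succ, Finset.prod_range_succ']
    simp [qfc, add_comm]
  rw [hshift] at h
  have hne : (q : ℂ) ^ (n * (n - 1) * (n - 2) / 6) * (qfc q n * ∏ i : Fin n, qfc q i.val) ≠ 0 :=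
    mul_ne_zero (pow_ne_zero _ (Nat.cast_ne_zero.2 Fintype.card_ne_zero))
      (mul_ne_zero (qfc_ne_zero _ _) (Finset.prod_ne_zero_iff.2 fun i _ => qfc_ne_zero _ _))
  refine mul_right_cancel₀ hne ?_
  linear_combination h

theorem fixedPointCharacter_central {G : Type*} [Group G] (H : Subgroup G) {z : G} (hz : z ∈ Subgroup.center G)
    (hzH : z ∈ H) : fixedPointCharacter H z = fixedPointCharacter H 1 := by
  unfold fixedPointCharacter
  congr 1
  refine Nat.card_congr (Equiv.subtypeEquivRight fun x => ?_)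
  induction x using QuotientGroup.induction_on with
  | _ a =>
    simp only [MulAction.mem_fixedBy, one_smul, iff_true]
    show ((z * a : G) : G ⧸ H) = a
    rw [← Subgroup.mem_center_iff.1 hz a, QuotientGroup.eq]
    simpa using inv_mem hzH

/-- A central element acts trivially on the flag characters. -/
theorem steinberg_center {z : GL (Fin n) F} (hz : z ∈ Subgroup.center (GL (Fin n) F)) :
    unipotentCharacterGL n F (fun _ => 1) z = unipotentCharacterGL n F (fun _ => 1) 1 := by
  simp only [unipotentCharacterGL]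
  refine Finset.sum_congr rfl fun κ _ => ?_
  split_ifs with h
  · congr 1
    refine fixedPointCharacter_central _ hz (Bruhat.upperTriangular_le_parabolic _ ?_)
    rw [Matrix.GeneralLinearGroup.center_eq_range_scalar] at hz
    obtain ⟨u, rfl⟩ := hz
    intro i j hij
    exact Matrix.diagonal_apply_ne _ (ne_of_gt hij)
  · rfl

theorem factorization_card_PSL (p : ℕ) [Fact p.Prime] [CharP F p] (hn : 1 ≤ n) :
    p ^ (Nat.card (Matrix.ProjectiveSpecialLinearGroup (Fin n) F)).factorization p =
      Fintype.card F ^ (n * (n - 1) / 2) := by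
  classical
  have : Nonempty (Fin n) := ⟨⟨0, hn⟩⟩
  set q := Fintype.card F
  obtain ⟨k, hp, hk⟩ := FiniteField.card F p
  have hq1 : 1 < q := Fintype.one_lt_card
  have hcop : ∀ m, 0 < m → ¬ p ∣ q ^ m - 1 := fun m hm h => by
    have h2 : p ∣ q ^ m := dvd_pow (show p ∣ q by rw [show q = _ from hk]; exact dvd_pow_self p k.pos.ne') hm.ne'
    have := Nat.dvd_sub h2 h
    rw [Nat.sub_sub_self (Nat.one_le_pow _ _ (by omega))] at this
    exact hp.ne_one (Nat.dvd_one.1 this)
  have h := card_SL_mul (F := F) n hn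
  rw [card_SL_eq_gcd_mul_card_PSL, Fintype.card_fin] at h
  have hsplit : ∀ i : Fin n, q ^ n - q ^ (i : ℕ) = q ^ (i : ℕ) * (q ^ (n - i) - 1) := fun i => by
    rw [Nat.mul_sub, ← pow_add, mul_one, Nat.add_sub_cancel' i.isLt.le]
  rw [Finset.prod_congr rfl fun i _ => hsplit i, Finset.prod_mul_distrib, Finset.prod_pow_eq_pow_sum,
    Fin.sum_univ_eq_sum_range (fun i => i), Finset.sum_range_id] at h
  have hg : ¬ p ∣ Nat.gcd n (q - 1) := fun hd => by
    have h3 : p ∣ q - 1 := hd.trans (Nat.gcd_dvd_right _ _)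
    exact hcop 1 one_pos (by rwa [pow_one])
  have hq1' : ¬ p ∣ q - 1 := by simpa using hcop 1 one_pos
  have hR : ¬ p ∣ ∏ i : Fin n, (q ^ (n - (i : ℕ)) - 1) := fun hd => by
    obtain ⟨i, -, hi⟩ := hp.prime.exists_mem_finset_dvd hd
    exact hcop _ (by omega) hi
  have hne : ∀ {a : ℕ}, ¬ p ∣ a → a ≠ 0 := fun ha e => ha (e ▸ dvd_zero p)
  have hG : Nat.card (Matrix.ProjectiveSpecialLinearGroup (Fin n) F) ≠ 0 := Nat.card_pos.ne'
  change (q - 1) * (Nat.gcd n (q - 1) * _) = _ at h
  have h' := congrArg (fun a => a.factorization p) h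
  simp only [Nat.factorization_mul (hne hq1') (mul_ne_zero (hne hg) hG), Nat.factorization_mul (hne hg) hG,
    Nat.factorization_mul (pow_ne_zero _ (by omega : q ≠ 0)) (hne hR), Finsupp.add_apply,
    Nat.factorization_eq_zero_of_not_dvd hq1', Nat.factorization_eq_zero_of_not_dvd hg,
    Nat.factorization_eq_zero_of_not_dvd hR, zero_add, add_zero] at h'
  rw [h', show q = _ from hk, ← pow_mul, hp.factorization_pow, Finsupp.single_eq_same]

/-- The Steinberg character of the projective special linear group. -/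
theorem exists_steinberg_PSL (p : ℕ) [Fact p.Prime] [CharP F p] (hn : 1 ≤ n) :
    ∃ χ : Matrix.ProjectiveSpecialLinearGroup (Fin n) F → ℂ,
      IsIrrCharacter (Matrix.ProjectiveSpecialLinearGroup (Fin n) F) χ ∧
      χ 1 = ((p ^ (Nat.card (Matrix.ProjectiveSpecialLinearGroup (Fin n) F)).factorization p : ℕ) : ℂ) := by
  classical
  set G := GL (Fin n) F
  let ι : Matrix.SpecialLinearGroup (Fin n) F →* G := Matrix.SpecialLinearGroup.toGL
  let N : Subgroup G := ι.range
  haveI : N.Normal := by
    have : N = (Matrix.GeneralLinearGroup.det : G →* Fˣ).ker := by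
      ext g
      constructor
      · rintro ⟨A, rfl⟩
        exact Units.ext A.2
      · intro hg
        exact ⟨⟨(g : Matrix (Fin n) (Fin n) F), congrArg Units.val hg⟩, Units.ext rfl⟩
    rw [this]; infer_instance
  haveI := Fintype.ofFinite N
  have hν : Monotone (fun _ : Fin n => 1) := monotone_const
  have hχ := isIrrCharacter_unipotent (F := F) (fun _ : Fin n => 1) hν (by simp)
  set χ := unipotentCharacterGL n F (fun _ => 1) with hχdef
  set d := Fintype.card F ^ (n * (n - 1) / 2) with hd
  have hdeg : χ 1 = (d : ℂ) := by rw [hχdef, steinberg_degree, hd]; push_cast; rfl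
  have hres : IsCharacter N (fun x : N => χ x) := hχ.isCharacter.comp N.subtype
  have hd0 : d ≠ 0 := pow_ne_zero _ Fintype.card_ne_zero
  obtain ⟨θ, hθ⟩ := exists_constituent hres (by
    show χ 1 ≠ 0
    rw [hdeg]; exact_mod_cast hd0)
  obtain ⟨e, he0, he⟩ := θ.2.exists_degree
  obtain ⟨h1, h2⟩ := degree_ratio_dvd_index N hχ θ.2 hθ hdeg he
  have hinj : Function.Injective ι := fun A B hAB => Subtype.ext (congrArg Units.val hAB)
  have hidx : N.index ∣ Fintype.card F - 1 := by
    have hN : Nat.card N = Nat.card (Matrix.SpecialLinearGroup (Fin n) F) :=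
      (Nat.card_congr (MonoidHom.ofInjective hinj).toEquiv).symm
    have : Nonempty (Fin n) := ⟨⟨0, hn⟩⟩
    have hi := N.card_mul_index
    rw [card_GL_eq_mul_card_SL, hN, mul_comm (Fintype.card F - 1)] at hi
    exact dvd_of_eq (Nat.eq_of_mul_eq_mul_left Nat.card_pos hi)
  have hed : e = d := by
    have h3 : d / e ∣ d := Nat.div_dvd_of_dvd h1
    have h4 : d / e ∣ Fintype.card F - 1 := h2.trans hidx
    have hcop : Nat.Coprime d (Fintype.card F - 1) := by
      refine Nat.Coprime.pow_left _ ?_
      have := Fintype.one_lt_card (α := F)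
      exact (Nat.coprime_self_sub_right (by omega)).2 (Nat.coprime_one_right _)
    have h5 : d / e = 1 := Nat.eq_one_of_dvd_coprimes hcop h3 h4
    have := Nat.div_mul_cancel h1
    rw [h5, one_mul] at this
    exact this
  obtain ⟨k, hk⟩ := hres.exists_nat_classInner θ.2.isCharacter
  have hirr : IsIrrCharacter N (fun x : N => χ x) := by
    choose m hm using fun φ : IrrCharacter N => hres.exists_nat_classInner φ.2.isCharacter
    have hexp := eq_sum_classInner hres.isClassFunction
    simp only [hm] at hexp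
    choose dg hdg0 hdg using fun φ : IrrCharacter N => φ.2.exists_degree
    have hsum : d = ∑ φ : IrrCharacter N, m φ * dg φ := by
      have := congrFun hexp 1
      simp only [Finset.sum_apply, Pi.smul_apply, smul_eq_mul, OneMemClass.coe_one, hdeg, hdg] at this
      exact_mod_cast this
    have hmθ : 1 ≤ m θ := Nat.one_le_iff_ne_zero.2 fun h0 => hθ (by rw [hm, h0, Nat.cast_zero])
    have hdθ : dg θ = d := by
      have := (hdg θ).symm.trans he
      rw [← hed]; exact_mod_cast this
    rw [← Finset.add_sum_erase _ _ (Finset.mem_univ θ), hdθ] at hsum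
    have h6 : m θ = 1 := by
      refine le_antisymm ?_ hmθ
      refine Nat.le_of_mul_le_mul_right ?_ (Nat.pos_of_ne_zero hd0)
      omega
    rw [h6, one_mul] at hsum
    have h7 : ∀ φ ∈ Finset.univ.erase θ, m φ = 0 := fun φ hφ => by
      have h8 : ∑ φ ∈ Finset.univ.erase θ, m φ * dg φ = 0 := by omega
      exact (Nat.mul_eq_zero.1 ((Finset.sum_eq_zero_iff.1 h8) φ hφ)).resolve_right (Nat.pos_iff_ne_zero.1 (hdg0 φ))
    rw [hexp, ← Finset.add_sum_erase _ _ (Finset.mem_univ θ), Finset.sum_eq_zero (fun φ hφ => by rw [h7 φ hφ]; simp)]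
    rw [h6, Nat.cast_one, one_smul, add_zero]
    exact θ.2
  let ιN : Matrix.SpecialLinearGroup (Fin n) F →* N := ι.rangeRestrict
  have hS := hirr.comp_surjective ιN ι.rangeRestrict_surjective
  obtain ⟨ψ, hψ, hψe⟩ := exists_deflate_irr (N := Subgroup.center (Matrix.SpecialLinearGroup (Fin n) F)) hS fun z hz => by
    show χ (ι z) = χ (ι 1)
    rw [map_one]
    refine steinberg_center ?_
    obtain ⟨r, -, hr⟩ := Matrix.SpecialLinearGroup.mem_center_iff.1 hz
    refine Subgroup.mem_center_iff.2 fun g => Units.ext ?_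
    show (g : Matrix (Fin n) (Fin n) F) * (z : Matrix (Fin n) (Fin n) F) = (z : Matrix (Fin n) (Fin n) F) * (g : Matrix (Fin n) (Fin n) F)
    rw [← hr]
    exact ((Matrix.scalar_commute r (fun _ => mul_comm _ _) _).eq).symm
  refine ⟨ψ, hψ, ?_⟩
  rw [← QuotientGroup.mk_one, hψe, factorization_card_PSL p hn]
  show χ (ι 1) = _
  rw [map_one, hdeg]

end Cfsg.Lib.Linear.Unipotent
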