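import Cfsg.Agent.S2420
import Mathlib.LinearAlgebra.Vandermonde

/-!
# Degrees of the alternating sums of flag characters of `GL_n(q)`
-/

set_option autoImplicit false

namespace Cfsg.Lib.Linear.Unipotent

open Matrix Polynomial
open scoped MatrixGroups

/-- The `q`-integer. -/
noncomputable def qint (q r : ℕ) : ℂ := ((∑ l ∈ Finset.range r, q ^ l : ℕ) : ℂ)

/-- The `q`-factorial. -/
noncomputable def qfc (q r : ℕ) : ℂ := ∏ j ∈ Finset.range r, qint q (j + 1)

theorem qint_ne_zero (q r : ℕ) : qint q (r + 1) ≠ 0 := by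
  rw [qint, Nat.cast_ne_zero]
  exact (Nat.lt_of_lt_of_le Nat.zero_lt_one
    (le_of_eq_of_le (by simp) (Finset.single_le_sum (f := fun l => q ^ l) (fun _ _ => Nat.zero_le _)
      (Finset.mem_range.2 (Nat.succ_pos r))))).ne'

theorem qfc_ne_zero (q r : ℕ) : qfc q r ≠ 0 := Finset.prod_ne_zero_iff.2 fun j _ => qint_ne_zero q j

theorem qint_zero (q : ℕ) : qint q 0 = 0 := by simp [qint]

theorem qint_sub (q : ℕ) {m l : ℕ} (h : m ≤ l) : (q : ℂ) ^ m * qint q (l - m) = qint q l - qint q m := by
  obtain ⟨k, rfl⟩ := Nat.exists_eq_add_of_le h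
  simp only [Nat.add_sub_cancel_left, qint, Nat.cast_sum, Nat.cast_pow, Finset.sum_range_add, Finset.mul_sum,
    ← pow_add]
  push_cast
  ring

/-- The falling product. -/
noncomputable def fall (q l j : ℕ) : ℂ := ∏ m ∈ Finset.range j, qint q (l - m)

theorem fall_eq_zero (q : ℕ) {l j : ℕ} (h : l < j) : fall q l j = 0 :=
  Finset.prod_eq_zero (Finset.mem_range.2 h) (by rw [Nat.sub_self, qint_zero])

theorem qfc_eq_mul_fall (q : ℕ) {l j : ℕ} (h : j ≤ l) : qfc q l = qfc q (l - j) * fall q l j := by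
  induction j with
  | zero => simp [fall]
  | succ j ih =>
    have h1 : qfc q (l - j) = qfc q (l - (j + 1)) * qint q (l - j) := by
      rw [show l - j = l - (j + 1) + 1 by omega, qfc, qfc, Finset.prod_range_succ]
    rw [ih (by omega), h1, fall, fall, Finset.prod_range_succ]
    ring

theorem fall_eq_eval (q l j : ℕ) : (q : ℂ) ^ (∑ m ∈ Finset.range j, m) * fall q l j =
    (∏ m ∈ Finset.range j, (X - C (qint q m))).eval (qint q l) := by
  rw [eval_prod]
  simp only [eval_sub, eval_X, eval_C]
  rcases lt_or_ge l j with h | h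
  · rw [fall_eq_zero q h, mul_zero, eq_comm]
    exact Finset.prod_eq_zero (Finset.mem_range.2 h) (sub_self _)
  · rw [fall, ← Finset.prod_pow_eq_pow_sum, ← Finset.prod_mul_distrib]
    exact Finset.prod_congr rfl fun m hm => qint_sub q (by have := Finset.mem_range.1 hm; omega)

theorem six_mul_sum (n : ℕ) : 6 * ∑ j ∈ Finset.range n, ∑ m ∈ Finset.range j, m = n * (n - 1) * (n - 2) := by
  induction n with
  | zero => simp
  | succ n ih =>
    rw [Finset.sum_range_succ, mul_add, ih]
    have h := Finset.sum_range_id_mul_two n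
    rcases n with _ | _ | n
    · simp
    · simp
    · simp only [Nat.add_sub_cancel, show n + 1 + 1 - 2 = n from rfl, show n + 1 + 1 + 1 - 2 = n + 1 from rfl] at h ⊢
      nlinarith

/-- Determinant of the falling products. -/
theorem det_fall (q : ℕ) {n : ℕ} (l : Fin n → ℕ) :
    (q : ℂ) ^ (n * (n - 1) * (n - 2) / 6) * (Matrix.of fun i j : Fin n => fall q (l i) j.val).det =
      ∏ i : Fin n, ∏ j ∈ Finset.Ioi i, (qint q (l j) - qint q (l i)) := by
  have hdeg : ∀ j : Fin n, (∏ m ∈ Finset.range j.val, (X - C (qint q m))).natDegree = j.val := fun j => by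
    rw [natDegree_prod _ _ fun m _ => X_sub_C_ne_zero _]
    simp
  have hmon : ∀ j : Fin n, (∏ m ∈ Finset.range j.val, (X - C (qint q m))).Monic := fun j =>
    monic_prod_of_monic _ _ fun m _ => monic_X_sub_C _
  rw [← det_vandermonde, det_eval_matrixOfPolynomials_eq_det_vandermonde _ _ hdeg hmon]
  simp only [← fall_eq_eval]
  rw [← six_mul_sum n, Nat.mul_div_cancel_left _ (by norm_num : 0 < 6), ← Fin.sum_univ_eq_sum_range,
    ← Finset.prod_pow_eq_pow_sum]
  exact (det_mul_row (fun j : Fin n => (q : ℂ) ^ (∑ m ∈ Finset.range j.val, m))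
    (Matrix.of fun i j : Fin n => fall q (l i) j.val)).symm

theorem fixedPoint_one {G : Type*} [Group G] (H : Subgroup G) :
    Cfsg.fixedPointCharacter H 1 = (Nat.card (G ⧸ H) : ℂ) := by
  simp [Cfsg.fixedPointCharacter, MulAction.fixedBy]

/-- The degree. -/
theorem character_one {F : Type*} [Field F] [Fintype F] {n : ℕ} (ν : Fin n → ℕ) (hsum : ∑ i, ν i = n) :
    Cfsg.unipotentCharacterGL n F ν 1 * (Fintype.card F : ℂ) ^ (n * (n - 1) * (n - 2) / 6) *
        ∏ i : Fin n, qfc (Fintype.card F) (ν i + i.val) =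
      qfc (Fintype.card F) n * ∏ i : Fin n, ∏ j ∈ Finset.Ioi i,
        (qint (Fintype.card F) (ν j + j.val) - qint (Fintype.card F) (ν i + i.val)) := by
  classical
  set q := Fintype.card F
  rw [← det_fall q (fun i : Fin n => ν i + i.val), ← det_transpose, det_apply', mul_right_comm,
    mul_comm _ ((q : ℂ) ^ (n * (n - 1) * (n - 2) / 6)), mul_left_comm (qfc q n)]
  congr 1
  rw [Cfsg.unipotentCharacterGL, Finset.sum_mul, Finset.mul_sum]
  refine Finset.sum_congr rfl fun κ _ => ?_
  simp only [transpose_apply, of_apply]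
  split
  next hv =>
    set c : Fin n → ℕ := fun i => ν i + i.val - (κ i).val with hc
    have hcs : ∑ i, c i = n := by
      have h1 : ∑ i, (c i + (κ i).val) = ∑ i : Fin n, (ν i + i.val) :=
        Finset.sum_congr rfl fun i _ => Nat.sub_add_cancel (hv i)
      rw [Finset.sum_add_distrib, Finset.sum_add_distrib, Equiv.sum_comp κ (fun i : Fin n => i.val), hsum] at h1
      omega
    have hidx : (Nat.card (GL (Fin n) F ⧸ Cfsg.parabolicGL n F c) : ℂ) * ∏ i : Fin n, qfc q (c i) = qfc q n := by
      have := Cfsg.Agent.S2420.result (F := F) (q := q) rfl c hcs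
      simp only [qfc, qint]
      exact_mod_cast this
    have hE : ∏ i : Fin n, qfc q (ν i + i.val) =
        (∏ i : Fin n, qfc q (c i)) * ∏ i : Fin n, fall q (ν i + i.val) (κ i).val := by
      rw [← Finset.prod_mul_distrib]
      exact Finset.prod_congr rfl fun i _ => qfc_eq_mul_fall q (hv i)
    rw [fixedPoint_one, hE, mul_assoc, ← mul_assoc (Nat.card _ : ℂ), hidx]
    ring
  next hv =>
    push Not at hv
    obtain ⟨i, hi⟩ := hv
    rw [Finset.prod_eq_zero (f := fun i : Fin n => fall q (ν i + i.val) (κ i).val) (Finset.mem_univ i)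
      (fall_eq_zero q hi)]
    simp

end Cfsg.Lib.Linear.Unipotent
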