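import Cfsg.Agent.Lib.Linear.Unipotent.Bruhat
import Mathlib

/-!
# Bialternant = Jacobi–Trudi, and the alternating count of tables

With `h m` the complete homogeneous polynomials in `n` variables, one has
`det [X k ^ l i] = det [h (l i - j)] * det [X k ^ i]`; reading off the coefficient of `X ^ l` shows
that the alternating sum of the numbers of integer tables with margins `l - π`, `l - κ` equals one.
-/

set_option autoImplicit false

namespace Cfsg.Lib.Linear.JacobiTrudi

open MvPolynomial
open Cfsg.Lib.Linear.Bruhat (Tables)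

variable {n : ℕ}

local notation "R" => MvPolynomial (Fin n) ℤ

/-- The geometric series of a variable. -/
noncomputable def geom (l : Fin n) : PowerSeries R := PowerSeries.mk fun m => X l ^ m

/-- The linear factor inverting `geom`. -/
noncomputable def lin (l : Fin n) : PowerSeries R := 1 - PowerSeries.C (X l) * PowerSeries.X

theorem lin_mul_geom (l : Fin n) : lin l * geom l = 1 := by
  ext1 m
  rw [lin, sub_mul, one_mul, map_sub, mul_assoc, PowerSeries.coeff_C_mul, PowerSeries.coeff_one]
  rcases m with _ | m
  · simp [geom]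
  · rw [PowerSeries.coeff_succ_X_mul, geom, PowerSeries.coeff_mk, PowerSeries.coeff_mk,
      if_neg (Nat.succ_ne_zero m), pow_succ', sub_self]

/-- The complete homogeneous polynomial of degree `m`. -/
noncomputable def hom (n m : ℕ) : MvPolynomial (Fin n) ℤ := PowerSeries.coeff m (∏ l : Fin n, geom l)

theorem coeff_prod_lin_eq_zero (s : Finset (Fin n)) :
    ∀ j, s.card < j → PowerSeries.coeff j (∏ l ∈ s, lin l) = 0 := by
  induction s using Finset.induction_on with
  | empty => intro j hj; rw [Finset.prod_empty, PowerSeries.coeff_one, if_neg (by simp at hj; omega)]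
  | insert a s ha ih =>
    intro j hj
    rw [Finset.card_insert_of_notMem ha] at hj
    obtain ⟨j, rfl⟩ : ∃ i, j = i + 1 := ⟨j - 1, by omega⟩
    rw [Finset.prod_insert ha, lin, sub_mul, one_mul, map_sub, mul_assoc, PowerSeries.coeff_C_mul,
      PowerSeries.coeff_succ_X_mul, ih _ (by omega), ih _ (by omega), mul_zero, sub_zero]

/-- Coefficients of the product of the linear factors of the other variables. -/
noncomputable def aux (j k : Fin n) : R :=
  PowerSeries.coeff j.val (∏ l ∈ Finset.univ.erase k, lin l)

/-- The matrix of shifted complete homogeneous polynomials. -/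
noncomputable def jtMatrix (l : Fin n → ℕ) : Matrix (Fin n) (Fin n) R :=
  Matrix.of fun i j => if j.val ≤ l i then hom n (l i - j.val) else 0

/-- The alternant. -/
noncomputable def alternant (l : Fin n → ℕ) : Matrix (Fin n) (Fin n) R :=
  Matrix.of fun i k => X k ^ l i

theorem alternant_eq (l : Fin n → ℕ) : alternant l = jtMatrix l * Matrix.of aux := by
  refine Matrix.ext fun i k => ?_
  have hprod : (∏ x ∈ Finset.univ.erase k, lin x) * (∏ x : Fin n, geom x) = geom k := by
    rw [← Finset.mul_prod_erase Finset.univ geom (Finset.mem_univ k), mul_left_comm,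
      ← Finset.prod_mul_distrib]
    simp only [lin_mul_geom, Finset.prod_const_one, mul_one]
  have h := congrArg (PowerSeries.coeff (l i)) hprod
  rw [PowerSeries.coeff_mul, geom, PowerSeries.coeff_mk,
    Finset.Nat.sum_antidiagonal_eq_sum_range_succ (fun x y => PowerSeries.coeff x _ * PowerSeries.coeff y _)] at h
  rw [alternant, Matrix.of_apply, ← h, Matrix.mul_apply]
  simp only [jtMatrix, Matrix.of_apply, aux, ite_mul, zero_mul]
  rw [Fin.sum_univ_eq_sum_range (fun j => if j ≤ l i then
      hom n (l i - j) * PowerSeries.coeff j (∏ x ∈ Finset.univ.erase k, lin x) else 0),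
    ← Finset.sum_filter]
  refine (Finset.sum_subset (fun j hj => ?_) fun j hj hj' => ?_).symm.trans
    (Finset.sum_congr rfl fun j _ => mul_comm _ _)
  · simp only [Finset.mem_filter, Finset.mem_range] at hj ⊢
    omega
  · simp only [Finset.mem_filter, Finset.mem_range] at hj hj'
    rw [coeff_prod_lin_eq_zero _ j (by
      rw [Finset.card_erase_of_mem (Finset.mem_univ k), Finset.card_univ, Fintype.card_fin]
      have := k.isLt
      omega), zero_mul]

theorem det_jtMatrix_id : (jtMatrix (fun i : Fin n => i.val)).det = 1 := by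
  rw [Matrix.det_of_isLowerTriangular _ ?_]
  · refine Finset.prod_eq_one fun i _ => ?_
    rw [jtMatrix, Matrix.of_apply, if_pos le_rfl, Nat.sub_self, hom, PowerSeries.coeff_zero_eq_constantCoeff_apply,
      map_prod]
    exact Finset.prod_eq_one fun l _ => by simp [geom]
  · intro i j hij
    rw [jtMatrix, Matrix.of_apply, if_neg]
    exact not_le.2 (Fin.lt_def.1 hij)

theorem det_alternant_eq (l : Fin n → ℕ) :
    (alternant l).det = (jtMatrix l).det * (alternant fun i : Fin n => i.val).det := by
  rw [alternant_eq l, alternant_eq (fun i : Fin n => i.val), Matrix.det_mul, Matrix.det_mul,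
    det_jtMatrix_id, one_mul]

theorem prod_X_pow (e : Fin n → ℕ) :
    (∏ i, (X i : R) ^ e i) = monomial (Finsupp.equivFunOnFinite.symm e) 1 := by
  rw [monomial_eq, C_1, one_mul, Finsupp.prod_fintype _ _ fun i => pow_zero _]
  rfl

theorem hom_eq (m : ℕ) :
    hom n m = ∑ d ∈ Finset.finsuppAntidiag Finset.univ m, monomial d 1 := by
  rw [hom, PowerSeries.coeff_prod]
  refine Finset.sum_congr rfl fun d _ => ?_
  simp only [geom, PowerSeries.coeff_mk]
  rw [prod_X_pow]
  simp

theorem coeff_prod_hom (a : Fin n →₀ ℕ) (b : Fin n → ℕ) :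
    coeff a (∏ l, hom n (b l)) = (Nat.card (Tables (fun k => a k) b) : ℤ) := by
  classical
  simp only [hom_eq, Finset.prod_univ_sum, ← monomial_sum_one, coeff_sum, coeff_monomial]
  rw [Finset.sum_boole]
  norm_cast
  rw [← Fintype.card_coe, ← Nat.card_eq_fintype_card]
  refine Nat.card_congr
    { toFun := fun f => ⟨fun k l => f.1 l k, ?_, ?_⟩
      invFun := fun T => ⟨fun l => Finsupp.equivFunOnFinite.symm fun k => T.1 k l, ?_⟩
      left_inv := fun f => Subtype.ext (funext fun l => Finsupp.ext fun k => rfl)
      right_inv := fun T => Subtype.ext (funext fun k => funext fun l => rfl) }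
  · intro k
    have := (Finset.mem_filter.1 f.2).2
    have h2 := DFunLike.congr_fun this k
    rw [Finsupp.finsetSum_apply] at h2
    exact h2
  · intro l
    have := Fintype.mem_piFinset.1 (Finset.mem_filter.1 f.2).1 l
    rw [Finset.mem_finsuppAntidiag] at this
    exact this.1
  · refine Finset.mem_filter.2 ⟨Fintype.mem_piFinset.2 fun l => ?_, Finsupp.ext fun k => ?_⟩
    · rw [Finset.mem_finsuppAntidiag]
      exact ⟨T.2.2 l, Finset.subset_univ _⟩
    · rw [Finsupp.finsetSum_apply]
      exact T.2.1 k

/-- The alternating sum of table counts attached to a strictly increasing sequence is one. -/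
theorem sum_sign_tables (l : Fin n → ℕ) (hl : Function.Injective l) :
    (∑ π : Equiv.Perm (Fin n), ∑ κ : Equiv.Perm (Fin n),
      if (∀ i, (π i).val ≤ l i) ∧ ∀ i, (κ i).val ≤ l i then
        ((Equiv.Perm.sign π : ℤ) * (Equiv.Perm.sign κ : ℤ)) *
          (Nat.card (Tables (fun i => l i - (π i).val) (fun i => l i - (κ i).val)) : ℤ)
      else 0) = 1 := by
  classical
  have key := congrArg (coeff (Finsupp.equivFunOnFinite.symm l)) (det_alternant_eq l)
  rw [← Matrix.det_transpose (jtMatrix l), mul_comm, Matrix.det_apply', Matrix.det_apply',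
    Matrix.det_apply', coeff_sum] at key
  simp only [alternant, jtMatrix, Matrix.transpose_apply, Matrix.of_apply, prod_X_pow] at key
  rw [Finset.sum_eq_single (1 : Equiv.Perm (Fin n))] at key
  · rw [Finset.sum_mul_sum, coeff_sum] at key
    simp only [Equiv.Perm.sign_one, Units.val_one, Int.cast_one, one_mul, Equiv.Perm.one_apply,
      coeff_monomial] at key
    simp only [if_true] at key
    rw [key]
    refine Finset.sum_congr rfl fun π _ => ?_
    rw [coeff_sum]
    refine Finset.sum_congr rfl fun κ _ => ?_
    rw [← map_intCast (C : ℤ →+* R) (Equiv.Perm.sign π : ℤ), C_mul_monomial, mul_one,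
      ← map_intCast (C : ℤ →+* R) (Equiv.Perm.sign κ : ℤ), mul_left_comm, coeff_C_mul, coeff_monomial_mul']
    by_cases h1 : ∀ i, (π i).val ≤ l i
    · have hle : Finsupp.equivFunOnFinite.symm (fun i => (π i).val) ≤ Finsupp.equivFunOnFinite.symm l :=
        fun i => by simpa using h1 i
      rw [if_pos hle]
      by_cases h2 : ∀ i, (κ i).val ≤ l i
      · rw [if_pos ⟨h1, h2⟩, Finset.prod_congr rfl (fun i _ => if_pos (h2 i)), coeff_prod_hom]
        simp only [Int.cast_id, Finsupp.tsub_apply, Finsupp.coe_equivFunOnFinite_symm]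
        ring
      · rw [if_neg fun h => h2 h.2]
        obtain ⟨i, hi⟩ := not_forall.1 h2
        rw [Finset.prod_eq_zero (Finset.mem_univ i) (if_neg hi), coeff_zero, mul_zero, mul_zero]
    · rw [if_neg fun h => h1 h.1, if_neg, mul_zero]
      exact fun h => h1 fun i => by simpa using h i
  · intro π _ hπ
    rw [← map_intCast (C : ℤ →+* R), C_mul_monomial, coeff_monomial, if_neg]
    intro h
    refine hπ (Equiv.ext fun i => hl ?_)
    simpa using DFunLike.congr_fun h i
  · simp

end Cfsg.Lib.Linear.JacobiTrudi
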