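import Cfsg.Agent.Lib.Linear.Unipotent.Degree
import Cfsg.Agent.Lib.Linear.Unipotent.Bruhat
import Cfsg.Agent.Lib.Linear.Unipotent.JacobiTrudi
import Cfsg.Agent.Lib.Char.SignedIrr
import Cfsg.Agent.Lib.Char.Induced
import Cfsg.Agent.Lib.Perm.PermCharacter

/-!
# Irreducibility of the alternating sums of flag characters
-/

set_option autoImplicit false

namespace Cfsg.Lib.Linear.Unipotent

open Cfsg Cfsg.Lib.Char Cfsg.Agent.PermCharacter
open scoped MatrixGroups ComplexConjugate

theorem isGeneralizedCharacter_fixedPoint {G : Type*} [Group G] [Fintype G] (H : Subgroup G) :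
    IsGeneralizedCharacter G (fixedPointCharacter H) := by
  classical
  let := Fintype.ofFinite (G ⧸ H)
  obtain ⟨a, ha⟩ : ∃ χ : G → ℂ, IsCharacter G χ ∧ χ = fixedPointCharacter H := by
    refine ⟨_, isCharacter_character (permRep ℂ G (G ⧸ H)), ?_⟩
    rw [character_permRep]
    rfl
  exact ⟨a, 0, ha.1, isCharacter_zero, by rw [sub_zero, ha.2]⟩

theorem isGeneralizedCharacter_unipotent {F : Type*} [Field F] [Fintype F] {n : ℕ} (ν : Fin n → ℕ) :
    IsGeneralizedCharacter (GL (Fin n) F) (unipotentCharacterGL n F ν) := by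
  classical
  let := Fintype.ofFinite (GL (Fin n) F)
  have : unipotentCharacterGL n F ν = ∑ κ : Equiv.Perm (Fin n),
      (((if ∀ i : Fin n, (κ i).val ≤ ν i + i.val then (Equiv.Perm.sign κ : ℤ) else 0 : ℤ)) : ℂ) •
        fixedPointCharacter (parabolicGL n F fun i => ν i + i.val - (κ i).val) := by
    funext g
    simp only [unipotentCharacterGL, Finset.sum_apply, Pi.smul_apply, smul_eq_mul]
    exact Finset.sum_congr rfl fun κ _ => by split <;> simp
  rw [this]
  exact IsGeneralizedCharacter.sum _ _ fun κ _ => (isGeneralizedCharacter_fixedPoint _).intCast_smul _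

theorem sum_parts {n : ℕ} (ν : Fin n → ℕ) (hsum : ∑ i, ν i = n) (κ : Equiv.Perm (Fin n))
    (h : ∀ i : Fin n, (κ i).val ≤ ν i + i.val) : ∑ i, (ν i + i.val - (κ i).val) = n := by
  have h1 : ∑ i, ((ν i + i.val - (κ i).val) + (κ i).val) = ∑ i : Fin n, (ν i + i.val) :=
    Finset.sum_congr rfl fun i _ => Nat.sub_add_cancel (h i)
  rw [Finset.sum_add_distrib, Finset.sum_add_distrib, Equiv.sum_comp κ (fun i : Fin n => i.val), hsum] at h1
  omega

theorem strictMono_shift {n : ℕ} {ν : Fin n → ℕ} (hmono : Monotone ν) :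
    StrictMono fun i : Fin n => ν i + i.val :=
  fun _ _ h => Nat.add_lt_add_of_le_of_lt (hmono h.le) (Fin.lt_def.1 h)

theorem classInner_unipotent {n : ℕ} {F : Type*} [Field F] [Fintype F] [Fintype (GL (Fin n) F)]
    (ν : Fin n → ℕ) (hmono : Monotone ν) (hsum : ∑ i, ν i = n) :
    classInner (unipotentCharacterGL n F ν) (unipotentCharacterGL n F ν) = 1 := by
  classical
  have hreal : ∀ (H : Subgroup (GL (Fin n) F)) g, conj (fixedPointCharacter H g) = fixedPointCharacter H g :=
    fun H g => by simp [fixedPointCharacter]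
  have hT := congrArg (Int.cast : ℤ → ℂ)
    (JacobiTrudi.sum_sign_tables (fun i : Fin n => ν i + i.val) (strictMono_shift hmono).injective)
  rw [Int.cast_one] at hT
  rw [← hT, classInner]
  simp only [unipotentCharacterGL, map_sum, Finset.sum_mul_sum, Int.cast_sum]
  rw [Finset.sum_comm, Finset.mul_sum]
  refine Finset.sum_congr rfl fun π _ => ?_
  rw [Finset.sum_comm, Finset.mul_sum]
  refine Finset.sum_congr rfl fun κ _ => ?_
  by_cases h1 : ∀ i : Fin n, (π i).val ≤ ν i + i.val
  · by_cases h2 : ∀ i : Fin n, (κ i).val ≤ ν i + i.val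
    · simp only [h1, h2, implies_true, and_self, if_true, map_mul, hreal, map_intCast]
      rw [Int.cast_mul, Int.cast_mul, Int.cast_natCast,
        ← Bruhat.sum_parabolic_eq (F := F) _ _ (sum_parts ν hsum π h1) (sum_parts ν hsum κ h2),
        ← mul_assoc, mul_comm ((Equiv.Perm.sign π : ℤ) * _ : ℂ), mul_assoc]
      congr 1
      rw [Finset.mul_sum]
      exact Finset.sum_congr rfl fun g _ => by ring
    · simp [h1, h2]
  · simp [h1]

theorem isIrrCharacter_unipotent {F : Type*} [Field F] [Fintype F] {n : ℕ} (ν : Fin n → ℕ)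
    (hmono : Monotone ν) (hsum : ∑ i, ν i = n) :
    IsIrrCharacter (GL (Fin n) F) (unipotentCharacterGL n F ν) := by
  classical
  let := Fintype.ofFinite (GL (Fin n) F)
  obtain ⟨ε, μ, hε, e⟩ := exists_signed_irr_of_norm_one (isGeneralizedCharacter_unipotent (F := F) ν)
    (classInner_unipotent ν hmono hsum)
  rcases hε with rfl | rfl
  · rw [e, Int.cast_one, one_smul]
    exact μ.2
  exfalso
  obtain ⟨d, hd0, hd⟩ := μ.2.exists_degree
  have hq : 0 < Fintype.card F := Fintype.card_pos
  have h := character_one (F := F) ν hsum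
  rw [e, Pi.smul_apply, hd] at h
  let N : ℕ → ℕ := fun r => ∑ l ∈ Finset.range r, (Fintype.card F) ^ l
  have hN : StrictMono N := strictMono_nat_of_lt_succ fun r => by
    simp only [N, Finset.sum_range_succ]
    exact Nat.lt_add_of_pos_right (pow_pos hq r)
  have hP : ∀ r, qfc (Fintype.card F) r = ((∏ j ∈ Finset.range r, N (j + 1) : ℕ) : ℂ) := fun r => by
    rw [Nat.cast_prod]; rfl
  have hsub : ∀ i j : Fin n, j ∈ Finset.Ioi i → qint (Fintype.card F) (ν j + j.val) - qint (Fintype.card F) (ν i + i.val) =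
      ((N (ν j + j.val) - N (ν i + i.val) : ℕ) : ℂ) := fun i j hj => by
    rw [Nat.cast_sub (hN.monotone ((strictMono_shift hmono).monotone (Finset.mem_Ioi.1 hj).le))]
    rfl
  rw [Finset.prod_congr rfl fun i _ => Finset.prod_congr rfl (hsub i)] at h
  simp only [hP, ← Nat.cast_prod, ← Nat.cast_pow, ← Nat.cast_mul, Int.cast_neg, Int.cast_one, neg_smul,
    one_smul, neg_mul] at h
  have hpos : 0 < (∏ j ∈ Finset.range n, N (j + 1)) * ∏ i : Fin n, ∏ j ∈ Finset.Ioi i,
      (N (ν j + j.val) - N (ν i + i.val)) :=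
    Nat.mul_pos (Finset.prod_pos fun j _ => lt_of_le_of_lt (Nat.zero_le _) (hN (Nat.succ_pos j)))
      (Finset.prod_pos fun i _ => Finset.prod_pos fun j hj =>
        Nat.sub_pos_of_lt (hN (strictMono_shift hmono (Finset.mem_Ioi.1 hj))))
  rw [neg_eq_iff_add_eq_zero, ← Nat.cast_add, Nat.cast_eq_zero] at h
  omega

end Cfsg.Lib.Linear.Unipotent
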